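import Groth.Agent.Vancyc.H695.ECpsi
import Groth.Agent.Etcore.HpullViaEq

/-!
# The Galois action on the stalks of nearby cycles, in terms of `VanCyc.galH`

`f : X ⟶ Spec R`, `ξ` a geometric point of the special fibre, `ξ' = ξ ≫ i`, `g = toBase ξ' ≫ f : Spec O^sh_{ξ'} ⟶ Spec R`.
`exists_psi_galH`: `Φ : Ψ^q_T(F)_ξ ≃+ H^q((Spec O^sh)_Ω, jbar^* F)` carrying `VanCyc.psiGal f σ` to `VanCyc.galH g σ`.
-/

set_option autoImplicit false
set_option backward.isDefEq.respectTransparency.types false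
universe u

open CategoryTheory CategoryTheory.Limits AlgebraicGeometry Opposite Abelian
open scoped Groth.Agent.Etcore.EtInst
open Groth.Agent.Etcore.EtInst

namespace Groth.Agent.Vancyc.H695.ECgal

open Groth.Agent Groth.Agent.EtpbcB Groth.Agent.EtpbcB.StrictLoc Groth.Agent.Etcore.PullCoh
  Groth.Agent.Etcore.HpullCalc Groth.Agent.Etcore.HpVia ThetaG

variable {R : Type u} [CommRing R] [IsLocalRing R] {K : Type u} [Field K] [Algebra R K]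
  {Ω : Type u} [Field Ω] [Algebra K Ω] [Algebra R Ω] [IsScalarTower R K Ω]
  {X : Scheme.{u}} (f : X ⟶ Spec (CommRingCat.of R))

section geom

variable {P : Scheme.{u}} (p : P ⟶ X)

/-- The map of geometric generic fibres `P_Ω ⟶ X_Ω` for `p : P ⟶ X`. -/
noncomputable def fibMap (Ω : Type u) [Field Ω] [Algebra R Ω] :
    VanCyc.fib R (p ≫ f) Ω ⟶ VanCyc.fib R f Ω :=
  pullback.lift (VanCyc.jA R (p ≫ f) Ω ≫ p) (VanCyc.fibStr R (p ≫ f) Ω) (by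
    rw [Category.assoc]; exact pullback.condition)

@[reassoc (attr := simp)]
theorem fibMap_jA : fibMap f p Ω ≫ VanCyc.jA R f Ω = VanCyc.jA R (p ≫ f) Ω ≫ p :=
  pullback.lift_fst _ _ _

@[reassoc (attr := simp)]
theorem fibMap_fibStr : fibMap f p Ω ≫ VanCyc.fibStr R f Ω = VanCyc.fibStr R (p ≫ f) Ω :=
  pullback.lift_snd _ _ _

theorem isPullback_fibMap :
    IsPullback (fibMap f p Ω) (VanCyc.jA R (p ≫ f) Ω) (VanCyc.jA R f Ω) p := by
  have h1 : IsPullback (VanCyc.fibStr R f Ω) (VanCyc.jA R f Ω) (VanCyc.toS R Ω) f :=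
    (IsPullback.of_hasPullback f (VanCyc.toS R Ω)).flip
  have h2 : IsPullback (fibMap f p Ω ≫ VanCyc.fibStr R f Ω) (VanCyc.jA R (p ≫ f) Ω)
      (VanCyc.toS R Ω) (p ≫ f) := by
    rw [fibMap_fibStr]
    exact (IsPullback.of_hasPullback (p ≫ f) (VanCyc.toS R Ω)).flip
  exact IsPullback.of_right h2 (fibMap_jA f p) h1

@[reassoc]
theorem galGeom_fibStr (σ : Ω ≃ₐ[K] Ω) : VanCyc.galGeom f σ ≫ VanCyc.fibStr R f Ω =
    VanCyc.fibStr R f Ω ≫ Spec.map (CommRingCat.ofHom (σ : Ω →+* Ω)) :=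
  pullback.lift_snd _ _ _

theorem galGeom_fibMap (σ : Ω ≃ₐ[K] Ω) :
    VanCyc.galGeom (p ≫ f) σ ≫ fibMap f p Ω = fibMap f p Ω ≫ VanCyc.galGeom f σ := by
  apply pullback.hom_ext
  · have h1 : (VanCyc.galGeom (p ≫ f) σ ≫ fibMap f p Ω) ≫ VanCyc.jA R f Ω =
        (fibMap f p Ω ≫ VanCyc.galGeom f σ) ≫ VanCyc.jA R f Ω := by
      rw [Category.assoc, Category.assoc, fibMap_jA, VanCyc.galGeom_jA, fibMap_jA,
        ← Category.assoc, VanCyc.galGeom_jA]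
    exact h1
  · have h1 : (VanCyc.galGeom (p ≫ f) σ ≫ fibMap f p Ω) ≫ VanCyc.fibStr R f Ω =
        (fibMap f p Ω ≫ VanCyc.galGeom f σ) ≫ VanCyc.fibStr R f Ω := by
      rw [Category.assoc, Category.assoc, fibMap_fibStr, galGeom_fibStr, galGeom_fibStr,
        fibMap_fibStr_assoc]
    exact h1

end geom

/-- Transport of `hpVia` along a factorization of the coefficients. -/
theorem HHmap_th_hpVia {M P X : Scheme.{u}} (m : M ⟶ M) (j : M ⟶ P) (p : P ⟶ X) (t : M ⟶ X)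
    (w : j ≫ p = t) (wj : m ≫ j = j) (wt : m ≫ t = t) [PreservesFiniteLimits (EtCoh.pull m)]
    (F : EtCoh.Ab X) (q : ℕ) (x : HH M ((EtCoh.pull j).obj ((EtCoh.pull p).obj F)) q) :
    hpVia m t t wt F q (HHmap (th j p t w F) q x) =
      HHmap (th j p t w F) q (hpVia m j j wj ((EtCoh.pull p).obj F) q x) :=
  hpVia_HHmap_th m j p j t t wj w wt w F q x

/-- Equivariant stalk formula, `hpVia` form with coefficients pulled back in two steps. -/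
theorem exists_psi_hpVia [IsNoetherianRing R] [IsFractionRing R K] [Algebra.IsSeparable K Ω]
    {Ω' : Type u} [Field Ω'] [IsSepClosed Ω'] (ξ : Spec (CommRingCat.of Ω') ⟶ VanCyc.spFib R f)
    [∀ σ : Ω ≃ₐ[K] Ω, PreservesFiniteLimits
      (EtCoh.pull (VanCyc.galGeom (toBase (ξ ≫ VanCyc.icl R f) ≫ f) σ))] (q : ℕ) (F : EtCoh.Ab X) :
    ∃ Φ : (EtCoh.stalk ξ).obj (VanCyc.psiT R Ω f q F) ≃+
        HH (VanCyc.fib R (toBase (ξ ≫ VanCyc.icl R f) ≫ f) Ω)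
          ((EtCoh.pull (VanCyc.jA R (toBase (ξ ≫ VanCyc.icl R f) ≫ f) Ω)).obj
            ((EtCoh.pull (toBase (ξ ≫ VanCyc.icl R f))).obj F)) q,
      ∀ (σ : Ω ≃ₐ[K] Ω) (z : (EtCoh.stalk ξ).obj (VanCyc.psiT R Ω f q F)),
        Φ ((EtCoh.stalk ξ).map (VanCyc.psiGal f σ q F) z) =
          hpVia (VanCyc.galGeom (toBase (ξ ≫ VanCyc.icl R f) ≫ f) σ)
            (VanCyc.jA R (toBase (ξ ≫ VanCyc.icl R f) ≫ f) Ω)
            (VanCyc.jA R (toBase (ξ ≫ VanCyc.icl R f) ≫ f) Ω)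
            (VanCyc.galGeom_jA (toBase (ξ ≫ VanCyc.icl R f) ≫ f) σ)
            ((EtCoh.pull (toBase (ξ ≫ VanCyc.icl R f))).obj F) q (Φ z) := by
  obtain ⟨p, hp⟩ : ∃ p, p = toBase (ξ ≫ VanCyc.icl R f) := ⟨_, rfl⟩
  obtain ⟨t, ht⟩ : ∃ t, t = VanCyc.jA R (toBase (ξ ≫ VanCyc.icl R f) ≫ f) Ω ≫
    toBase (ξ ≫ VanCyc.icl R f) := ⟨_, rfl⟩
  have wt : ∀ σ : Ω ≃ₐ[K] Ω, VanCyc.galGeom (toBase (ξ ≫ VanCyc.icl R f) ≫ f) σ ≫ t = t := by
    intro σ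
    rw [ht, ← Category.assoc, VanCyc.galGeom_jA]
  obtain ⟨e, he⟩ := ECpsi.exists_psi_equiv f ξ (isPullback_fibMap f (toBase (ξ ≫ VanCyc.icl R f))) t
    (by rw [fibMap_jA, ht]) (fun σ => VanCyc.galGeom (toBase (ξ ≫ VanCyc.icl R f) ≫ f) σ)
    (fun σ => galGeom_fibMap f _ σ) (fun σ => VanCyc.galGeom_jA _ σ) wt q F
  let E := HHcongr (asIso (th (VanCyc.jA R (toBase (ξ ≫ VanCyc.icl R f) ≫ f) Ω)
    (toBase (ξ ≫ VanCyc.icl R f)) t ht.symm F)) q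
  refine ⟨e.trans E.symm, fun σ z => ?_⟩
  apply E.injective
  have h1 := HHmap_th_hpVia (VanCyc.galGeom (toBase (ξ ≫ VanCyc.icl R f) ≫ f) σ)
    (VanCyc.jA R (toBase (ξ ≫ VanCyc.icl R f) ≫ f) Ω) (toBase (ξ ≫ VanCyc.icl R f)) t ht.symm
    (VanCyc.galGeom_jA (toBase (ξ ≫ VanCyc.icl R f) ≫ f) σ) (wt σ) F q (E.symm (e z))
  have h2 : E (E.symm (e ((EtCoh.stalk ξ).map (VanCyc.psiGal f σ q F) z))) =
      e ((EtCoh.stalk ξ).map (VanCyc.psiGal f σ q F) z) := E.apply_symm_apply _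
  have h3 : HHmap (th (VanCyc.jA R (toBase (ξ ≫ VanCyc.icl R f) ≫ f) Ω)
    (toBase (ξ ≫ VanCyc.icl R f)) t ht.symm F) q (E.symm (e z)) = e z := E.apply_symm_apply _
  rw [h3] at h1
  exact h2.trans ((he σ z).trans h1)

/-- **Equivariant stalk formula for nearby cycles, `VanCyc.galH` form.** The right hand side is stated for every
homomorphism `γ` which is equal to `galH` (pass `γ = galH ..` and `rfl`; kernel speed). -/
theorem exists_psi_galH [IsNoetherianRing R] [IsFractionRing R K] [Algebra.IsSeparable K Ω]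
    {Ω' : Type u} [Field Ω'] [IsSepClosed Ω'] (ξ : Spec (CommRingCat.of Ω') ⟶ VanCyc.spFib R f)
    [∀ σ : Ω ≃ₐ[K] Ω, PreservesFiniteLimits
      (EtCoh.pull (VanCyc.galGeom (toBase (ξ ≫ VanCyc.icl R f) ≫ f) σ))] (q : ℕ) (F : EtCoh.Ab X) :
    ∃ Φ : (EtCoh.stalk ξ).obj (VanCyc.psiT R Ω f q F) ≃+
        EtCoh.H (VanCyc.fib R (toBase (ξ ≫ VanCyc.icl R f) ≫ f) Ω)
          ((EtCoh.pull (VanCyc.jA R (toBase (ξ ≫ VanCyc.icl R f) ≫ f) Ω)).obj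
            ((EtCoh.pull (toBase (ξ ≫ VanCyc.icl R f))).obj F)) q,
      ∀ (σ : Ω ≃ₐ[K] Ω) (γ : _ →+ _)
        (_ : γ = VanCyc.galH (toBase (ξ ≫ VanCyc.icl R f) ≫ f) σ
          ((EtCoh.pull (toBase (ξ ≫ VanCyc.icl R f))).obj F) q)
        (z : (EtCoh.stalk ξ).obj (VanCyc.psiT R Ω f q F)),
        Φ ((EtCoh.stalk ξ).map (VanCyc.psiGal f σ q F) z) = γ (Φ z) := by
  obtain ⟨Φ, hΦ⟩ := exists_psi_hpVia (K := K) (Ω := Ω) f ξ q F
  refine ⟨Φ, fun σ γ hγ z => ?_⟩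
  subst hγ
  exact (hΦ σ z).trans (HpullVia_apply_eq_hpVia _ _ _ _ _ q (Φ z)).symm

end Groth.Agent.Vancyc.H695.ECgal
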