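import Groth.Agent.Vancyc.H695.ECgal
import Groth.Agent.Vancyc.H692.SignTriv

/-!
# S4013 from the sign theorem S4012
-/

set_option autoImplicit false
universe u
open CategoryTheory CategoryTheory.Limits AlgebraicGeometry Opposite

namespace Groth.Agent.Vancyc.H695.Close

open Groth.Agent.Vancyc.H692.SignTriv

attribute [local instance 3000] pfl

/-- If every `σ` acts by a sign on the stalk, and `2` is invertible, then every `σ` fixing the square roots of a
uniformizer acts trivially. -/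
theorem of_sign (R K Ω : Type u) [CommRing R] [IsDomain R] [IsDiscreteValuationRing R]
    (hR : EtCoh.IsStrictlyHenselianLocalRing R) [Field K] [Algebra R K] [IsFractionRing R K] [Field Ω] [Algebra K Ω]
    [IsSepClosure K Ω] [Algebra R Ω] [IsScalarTower R K Ω]
    {X : Scheme.{u}} (f : X ⟶ Spec (CommRingCat.of R)) (n : ℕ)
    {Ω' : Type u} [Field Ω'] [IsSepClosed Ω']
    (ξ : Spec (CommRingCat.of Ω') ⟶ VanCyc.spFib R f) (F : EtCoh.Ab X)
    (hsign : ∀ σ : Ω ≃ₐ[K] Ω, ∃ ε : ℤ, (ε = 1 ∨ ε = -1) ∧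
      (EtCoh.stalk ξ).map (VanCyc.psiGal f σ n F) = ε • 𝟙 _)
    (h2 : IsUnit (2 : R)) (t : R) (ht : Irreducible t) (σ : Ω ≃ₐ[K] Ω)
    (hσ : VanCyc.quadChar (algebraMap R K t) σ = 1) :
    (EtCoh.stalk ξ).map (VanCyc.psiGal f σ n F) = 𝟙 _ := by
  have hsep : Algebra.IsSeparable K Ω := IsSepClosure.separable
  obtain ⟨Φ, hΦ⟩ := ECgal.exists_psi_galH (K := K) (Ω := Ω) f ξ n F
  have hq1 : QuasiCompact (EtpbcB.StrictLoc.toBase (ξ ≫ VanCyc.icl R f) ≫ f) := inferInstance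
  have hq2 : QuasiSeparated (EtpbcB.StrictLoc.toBase (ξ ≫ VanCyc.icl R f) ≫ f) := inferInstance
  exact stalk_map_psiGal_eq_id R K Ω hR f ξ F n _ _ Φ (fun σ a => hΦ σ _ rfl a) hsign h2 ht σ hσ

end Groth.Agent.Vancyc.H695.Close
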