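import Groth.Agent.Etcore.StalkLimN
import Groth.Agent.Sga4h.BidGeoLim
import Groth.Prelude.Def_VanCyc

/-!
# Acyclicity of injective sheaves on limits of étale schemes

* `subsingleton_H_isEtLim`: `X'' ⟶ X'` a limit of affine étale schemes, `X'` affine étale over `X`, `J` injective on `X`:
  `H^{n+1}(X'', J) = 0`.
* `subsingleton_H_local`: `f : X ⟶ Spec R` (`R` noetherian domain with fraction field `K`, `Ω` separable algebraic over `K`),
  `ξ` a geometric point of `X`, `M = X_Ω ×_X Spec O^sh_ξ`: `H^{n+1}(M, J) = 0`.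
-/

set_option autoImplicit false
set_option backward.isDefEq.respectTransparency.types false
universe u

open CategoryTheory CategoryTheory.Limits AlgebraicGeometry Opposite

namespace Groth.Agent.Vancyc.H695.AcycLim

open Groth.Agent Groth.Agent.EtpbcB Groth.Agent.EtpbcB.StrictLoc
  Groth.Agent.EtpbcB.NKillEt Groth.Agent.EtpbcB.NKillOpen Groth.Agent.Etcore.StalkLimN
  Groth.Agent.Sga4h.BidGeoLim

theorem subsingleton_H_isEtLim {X'' X' X : Scheme.{u}} (g : X'' ⟶ X') (hg : IsEtLim g) [IsAffine X']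
    (p : X' ⟶ X) [Etale p] (q : X'' ⟶ X) (hq : g ≫ p = q) (J : EtCoh.Ab X) [Injective J] {n : ℕ}
    (hn : 0 < n) : Subsingleton (EtCoh.H X'' ((EtCoh.pull q).obj J) n) := by
  obtain ⟨I, _, _, D, t, c, e, ⟨hc⟩, het, haff, htr, hg⟩ := hg
  let c' : Cone D :=
    { pt := X''
      π := { app := fun i => e.hom ≫ c.π.app i
             naturality := fun i j h => by
               refine (Category.id_comp _).trans ?_
               rw [Category.assoc, c.w h] } }
  have hc' : IsLimit c' := hc.ofIsoLimit (Cone.ext e.symm (fun i => by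
    simp [c']))
  have hAff : ∀ i, IsAffine (D.obj i) := fun i => by
    have := haff i
    exact isAffine_of_isAffineHom (show D.obj i ⟶ X' from t.app i)
  have ht : ∀ {i j : I} (h : i ⟶ j), D.map h ≫ t.app j = t.app i := fun h =>
    (t.naturality h).trans (Category.comp_id _)
  refine LimVan.subsingleton_H D (fun {a b} h => htr a b h) (fun i => ?_) (fun i => ?_) c' hc'
    (fun i => t.app i ≫ p) (fun h => by rw [← Category.assoc, ht]) q (fun i => ?_) J n (fun i => ?_)
  · have := hAff i
    infer_instance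
  · have := hAff i
    infer_instance
  · have := hg i
    change (e.hom ≫ c.π.app i) ≫ t.app i ≫ p = q
    rw [← hq, ← hg i]
    simp only [Category.assoc]
  · have := het i
    have : Etale (t.app i ≫ p) := inferInstance
    exact subsingleton_H_injective _ (injective_pull (t.app i ≫ p) J) hn

variable {R : Type u} [CommRing R] [IsNoetherianRing R] (K : Type u) [Field K] [Algebra R K]
  [IsFractionRing R K] (Ω : Type u) [Field Ω] [Algebra R Ω] [Algebra K Ω] [IsScalarTower R K Ω]
  [Algebra.IsSeparable K Ω]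

include K in
theorem subsingleton_H_local {X : Scheme.{u}} (f : X ⟶ Spec (CommRingCat.of R))
    {Y : Scheme.{u}} (j : Y ⟶ X) (pr : Y ⟶ Spec (CommRingCat.of Ω))
    (hY : IsPullback j pr f (VanCyc.toS R Ω)) {Ω' : Type u} [Field Ω'] [IsSepClosed Ω']
    (ξ : Spec (CommRingCat.of Ω') ⟶ X) {M : Scheme.{u}} {b : M ⟶ Spec (Osh ξ)} {a : M ⟶ Y}
    (h : IsPullback a b j (toBase ξ)) (t : M ⟶ X) (w : a ≫ j = t) (J : EtCoh.Ab X) [Injective J]
    {n : ℕ} (hn : 0 < n) : Subsingleton (EtCoh.H M ((EtCoh.pull t).obj J) n) := by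
  have hj : IsAffineHom j := MorphismProperty.of_isPullback hY.flip inferInstance
  refine LimVan.subsingleton_H (DX ξ j) (fun g => inferInstance) (fun i => inferInstance)
    (fun i => inferInstance) (coneX ξ j h) (isLimitConeX ξ j h)
    (fun i => ((EtCoh.bc j).obj ((D ξ).obj i)).hom ≫ j)
    (fun g => by
      rw [← Category.assoc]
      exact congrArg (· ≫ j) (BCCalc.left_hom ((EtCoh.bc j).map ((D ξ).map g)))) t
    (fun i => by
      refine (Category.assoc _ _ _).symm.trans ?_
      refine (congrArg (· ≫ j) (legX_hom ξ j h i)).trans w) J n (fun i => ?_)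
  have het : Etale ((D ξ).obj i).hom := ((D ξ).obj i).prop
  have haf : IsAffine ((D ξ).obj i).left := inferInstance
  -- `E_i = D_i ×_R Spec Ω`
  have h1 := BCCalc.isPullback_pr j ((D ξ).obj i)
  have h2 : IsPullback (BCCalc.pr j ((D ξ).obj i)) (((EtCoh.bc j).obj ((D ξ).obj i)).hom ≫ pr)
      (((D ξ).obj i).hom ≫ f) (VanCyc.toS R Ω) := h1.paste_vert hY
  have h3 : IsEtLim (BCCalc.pr j ((D ξ).obj i)) := by
    have h4 := (isEtLim_toBase R K Ω).pullback (((D ξ).obj i).hom ≫ f)
    have h5 := h4.iso_comp h2.isoPullback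
    rwa [h2.isoPullback_hom_fst] at h5
  exact subsingleton_H_isEtLim _ h3 ((D ξ).obj i).hom _ (BCCalc.pr_hom j _) J hn

end Groth.Agent.Vancyc.H695.AcycLim
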