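import Groth.Agent.Vancyc.H695.ThetaG

/-!
# The stalk of `j_* j^* F` in degree zero, equivariantly (sections)

For `j : Y ⟶ X` qcqs, a geometric point `ξ` of `X`, `M = Y ×_X Spec O^sh_ξ` (with projections `a`, `b`) and
`t = a ≫ j : M ⟶ X`: isomorphisms `cc : (j_* j^* F)_ξ ≅ Γ(M, t^* F)`, natural in `F`, and the action of an
`X`-endomorphism `s` of `Y` (`tG`, the components of `ThetaG.thetaG s j j`) in terms of the induced endomorphism of `M`
(`val_cc_tG`, in terms of local families).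

(Kernel speed: the kernel is slow when it has to unfold `(EtCoh.pull j).obj F`, so defeq conversions are always done
for variable sheaves.)
-/

set_option autoImplicit false
set_option backward.isDefEq.respectTransparency.types false
universe u

open CategoryTheory CategoryTheory.Limits AlgebraicGeometry Opposite Abelian

namespace Groth.Agent.Vancyc.H695.Deg0

open Groth.Agent Groth.Agent.EtpbcB Groth.Agent.EtpbcB.StrictLoc Groth.Agent.EtpbcB.Big
  Groth.Agent.EtpbcB.SepClosedPoint Groth.Agent.Etcore.PullCoh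
  Groth.Agent.Etcore.LimDeg0 Groth.Agent.Etcore.StalkLim Groth.Agent.Etcore.SecPull ThetaG

variable {X Y : Scheme.{u}} (j : Y ⟶ X) {Ω : Type u} [Field Ω] [IsSepClosed Ω]
  (ξ : Spec (CommRingCat.of Ω) ⟶ X) {M : Scheme.{u}} {b : M ⟶ Spec (Osh ξ)} {a : M ⟶ Y}
  (h : IsPullback a b j (toBase ξ)) (t : M ⟶ X) (w : a ≫ j = t)

theorem sec_apply (F : EtCoh.Ab Y) (i : Idx ξ)
    (σ : EtCoh.sect F ((EtCoh.bc j).obj ((D ξ).obj i))) :
    sec j ξ h F i σ = ((EtCoh.pull a).obj F).obj.map (rmap j ξ h i).op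
      (eta a F ((EtCoh.bc j).obj ((D ξ).obj i)) σ) := rfl

theorem th_sec (F : EtCoh.Ab X) (i : Idx ξ)
    (σ : EtCoh.sect ((EtCoh.pull j).obj F) ((EtCoh.bc j).obj ((D ξ).obj i))) :
        (th a j t w F).hom.app (op (EtCoh.top M)) (sec j ξ h ((EtCoh.pull j).obj F) i σ) =
      ((EtCoh.pull t).obj F).obj.map (rmap j ξ h i).op
        ((th a j t w F).hom.app _ (eta a _ ((EtCoh.bc j).obj ((D ξ).obj i)) σ)) :=
  (congrArg (fun z => (th a j t w F).hom.app (op (EtCoh.top M)) z) (sec_apply j ξ h _ i σ)).trans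
   (map_res (th a j t w F) (rmap j ξ h i)
    (eta a _ ((EtCoh.bc j).obj ((D ξ).obj i)) σ))


include w in
theorem legX_cond (i : Idx ξ) :
    legX ξ j h i ≫ ((EtCoh.bc j).obj ((D ξ).obj i)).hom ≫ j = (EtCoh.top M).hom ≫ t := by
  rw [← Category.assoc, legX_hom, w]
  exact (Category.id_comp _).symm

/-- Local family of a section over an affine neighbourhood, restricted to `M`. -/
theorem val_th_sec (F : EtCoh.Ab X) (i : Idx ξ)
    (σ : EtCoh.sect ((EtCoh.pull j).obj F) ((EtCoh.bc j).obj ((D ξ).obj i))) :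
    val t F (U := EtCoh.top M)
        ((th a j t w F).hom.app (op (EtCoh.top M)) (sec j ξ h ((EtCoh.pull j).obj F) i σ)) =
      (val j F σ).res (legX ξ j h i) (legX_cond j ξ h t w i) := by
  have h1 := th_sec j ξ h t w F i σ
  rw [h1, val_res, val_th, Fam.res_res]
  exact Fam.res_congr _ _ (rmap_pr j ξ h i)

/-- The comparison map of `StalkLim`, with a plain source. -/
noncomputable def cm (F : EtCoh.Ab Y) :
    (EtCoh.stalk ξ).obj ((EtCoh.push j).obj F) ⟶ (Γtop M).obj ((EtCoh.pull a).obj F) :=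
  cmp j ξ h F

/-- The germ map. -/
noncomputable def gm (G : EtCoh.Ab X) (i : Idx ξ) :
    G.obj.obj (op ((D ξ).obj i)) ⟶ (EtCoh.stalk ξ).obj G :=
  (coconeP ξ G.obj).ι.app (op i)

theorem gm_cm (F : EtCoh.Ab Y) (i : Idx ξ) :
    gm ξ ((EtCoh.push j).obj F) i ≫ cm j ξ h F = sec j ξ h F i :=
  ι_cmp j ξ h F i

theorem exists_gm (G : EtCoh.Ab X) (x : (EtCoh.stalk ξ).obj G) :
    ∃ (i : Idx ξ) (σ : G.obj.obj (op ((D ξ).obj i))), gm ξ G i σ = x := by
  obtain ⟨i, σ, hσ⟩ := Concrete.isColimit_exists_rep _ (isColimitP ξ G.obj) x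
  exact ⟨i.unop, σ, hσ⟩

theorem gm_map {G G' : EtCoh.Ab X} (φ : G ⟶ G') (i : Idx ξ) :
    gm ξ G i ≫ (EtCoh.stalk ξ).map φ = φ.hom.app (op ((D ξ).obj i)) ≫ gm ξ G' i :=
  (Scheme.pointSmallEtale ξ).toPresheafFiber_naturality _ _ _

theorem cm_naturality {F G : EtCoh.Ab Y} (φ : F ⟶ G) :
    (EtCoh.stalk ξ).map ((EtCoh.push j).map φ) ≫ cm j ξ h G =
      cm j ξ h F ≫ (Γtop M).map ((EtCoh.pull a).map φ) :=
  cmp_naturality j ξ h φ

instance [QuasiCompact j] [QuasiSeparated j] (F : EtCoh.Ab Y) : IsIso (cm j ξ h F) :=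
  isIso_cmp j ξ h F

/-- The comparison in degree zero, as a homomorphism. -/
noncomputable def cc (F : EtCoh.Ab X) :
    (EtCoh.stalk ξ).obj ((EtCoh.push j).obj ((EtCoh.pull j).obj F)) ⟶
      (Γtop M).obj ((EtCoh.pull t).obj F) :=
  cm j ξ h ((EtCoh.pull j).obj F) ≫ (Γtop M).map (th a j t w F)

theorem gm_cc (F : EtCoh.Ab X) (i : Idx ξ) :
    gm ξ ((EtCoh.push j).obj ((EtCoh.pull j).obj F)) i ≫ cc j ξ h t w F =
      sec j ξ h ((EtCoh.pull j).obj F) i ≫ (Γtop M).map (th a j t w F) := by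
  unfold cc
  rw [← Category.assoc, gm_cm]

theorem gm_cm_apply (G : EtCoh.Ab Y) (i : Idx ξ) (σ : EtCoh.sect G ((EtCoh.bc j).obj ((D ξ).obj i))) :
    cm j ξ h G (gm ξ ((EtCoh.push j).obj G) i σ) = sec j ξ h G i σ :=
  ConcreteCategory.congr_hom (gm_cm j ξ h G i) σ

theorem Γtop_map_apply {H H' : EtCoh.Ab M} (φ : H ⟶ H') (x : EtCoh.sect H (EtCoh.top M)) :
    (Γtop M).map φ x = φ.hom.app (op (EtCoh.top M)) x := rfl

theorem cc_apply (F : EtCoh.Ab X) (z : (EtCoh.stalk ξ).obj ((EtCoh.push j).obj ((EtCoh.pull j).obj F))) :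
    cc j ξ h t w F z = (Γtop M).map (th a j t w F) (cm j ξ h ((EtCoh.pull j).obj F) z) :=
  ConcreteCategory.comp_apply _ _ _

theorem gm_cc_apply (F : EtCoh.Ab X) (i : Idx ξ)
    (σ : EtCoh.sect ((EtCoh.pull j).obj F) ((EtCoh.bc j).obj ((D ξ).obj i))) :
    cc j ξ h t w F (gm ξ ((EtCoh.push j).obj ((EtCoh.pull j).obj F)) i σ) =
      (th a j t w F).hom.app (op (EtCoh.top M)) (sec j ξ h ((EtCoh.pull j).obj F) i σ) := by
  rw [cc_apply, gm_cm_apply, Γtop_map_apply]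


theorem val_cc_gm (F : EtCoh.Ab X) (i : Idx ξ)
    (σ : EtCoh.sect ((EtCoh.pull j).obj F) ((EtCoh.bc j).obj ((D ξ).obj i))) :
    val t F (U := EtCoh.top M)
      (cc j ξ h t w F (gm ξ ((EtCoh.push j).obj ((EtCoh.pull j).obj F)) i σ)) =
      (val j F σ).res (legX ξ j h i) (legX_cond j ξ h t w i) := by
  rw [gm_cc_apply, val_th_sec]

instance [QuasiCompact j] [QuasiSeparated j] (F : EtCoh.Ab X) : IsIso (cc j ξ h t w F) := by
  unfold cc
  infer_instance

theorem cc_naturality {F F' : EtCoh.Ab X} (φ : F ⟶ F') :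
    (EtCoh.stalk ξ).map ((EtCoh.push j).map ((EtCoh.pull j).map φ)) ≫ cc j ξ h t w F' =
      cc j ξ h t w F ≫ (Γtop M).map ((EtCoh.pull t).map φ) := by
  unfold cc
  have h2 := congrArg (fun z => (Γtop M).map z) (th_nat a j t w φ)
  simp only [Functor.map_comp] at h2
  rw [Category.assoc, ← h2, ← Category.assoc, ← Category.assoc, cm_naturality]

/-- `M ⟶ M` induced by an `X`-endomorphism of `Y`, on the legs. -/
theorem legX_rs (s : Y ⟶ Y) (ws : s ≫ j = j) (m : M ⟶ M) (h1 : m ≫ a = a ≫ s) (h2 : m ≫ b = b)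
    (i : Idx ξ) :
    legX ξ j h i ≫ rs s j j ws ((D ξ).obj i) = m ≫ legX ξ j h i := by
  apply (BCCalc.isPullback_pr j ((D ξ).obj i)).hom_ext
  · rw [Category.assoc, rs_pr, legX_pr, Category.assoc, legX_pr, ← Category.assoc, h2]
  · rw [Category.assoc, rs_hom, ← Category.assoc, legX_hom, Category.assoc, legX_hom, h1]

/-- `thetaG` with plain source and target -/
noncomputable def tG (s : Y ⟶ Y) (ws : s ≫ j = j) (F : EtCoh.Ab X) :
    (EtCoh.push j).obj ((EtCoh.pull j).obj F) ⟶ (EtCoh.push j).obj ((EtCoh.pull j).obj F) :=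
  (thetaG s j j ws).app F

theorem gm_tG (s : Y ⟶ Y) (ws : s ≫ j = j) (F : EtCoh.Ab X) (i : Idx ξ)
    (σ : EtCoh.sect ((EtCoh.pull j).obj F) ((EtCoh.bc j).obj ((D ξ).obj i))) :
    (EtCoh.stalk ξ).map (tG j s ws F)
        (gm ξ ((EtCoh.push j).obj ((EtCoh.pull j).obj F)) i σ) =
      gm ξ ((EtCoh.push j).obj ((EtCoh.pull j).obj F)) i
        ((tG j s ws F).hom.app (op ((D ξ).obj i)) σ) :=
  ConcreteCategory.congr_hom (gm_map ξ (tG j s ws F) i) σ

theorem val_tG (s : Y ⟶ Y) (ws : s ≫ j = j) (F : EtCoh.Ab X) (U : X.Etale)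
    (x : EtCoh.sect ((EtCoh.pull j).obj F) ((EtCoh.bc j).obj U)) :
    val j F (U := (EtCoh.bc j).obj U) ((tG j s ws F).hom.app (op U) x) =
      (val j F x).res (rs s j j ws U) (rs_cond s j j ws U) :=
  val_thetaG s j j ws F U x

theorem mt (s : Y ⟶ Y) (ws : s ≫ j = j) (m : M ⟶ M) (h1 : m ≫ a = a ≫ s)
    (t : M ⟶ X) (w : a ≫ j = t) : m ≫ t = t := by
  rw [← w, ← Category.assoc, h1, Category.assoc, ws]

theorem topCond (m : M ⟶ M) (wm : m ≫ t = t) :
    m ≫ (EtCoh.top M).hom ≫ t = (EtCoh.top M).hom ≫ t :=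
  (congrArg (m ≫ ·) (Category.id_comp _)).trans (wm.trans (Category.id_comp _).symm)

theorem val_cc_tG (s : Y ⟶ Y) (ws : s ≫ j = j) (m : M ⟶ M) (h1 : m ≫ a = a ≫ s)
    (h2 : m ≫ b = b) (F : EtCoh.Ab X)
    (x : (EtCoh.stalk ξ).obj ((EtCoh.push j).obj ((EtCoh.pull j).obj F))) :
    val t F (U := EtCoh.top M)
      (cc j ξ h t w F ((EtCoh.stalk ξ).map (tG j s ws F) x)) =
    (val t F (U := EtCoh.top M) (cc j ξ h t w F x)).res m
      (topCond t m (mt j s ws m h1 t w)) := by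
  obtain ⟨i, σ, rfl⟩ := exists_gm ξ _ x
  rw [gm_tG, val_cc_gm, val_cc_gm, val_tG, Fam.res_res]
  refine Eq.trans ?_ (Fam.res_res _ _ _ _ _).symm
  exact Fam.res_congr _ _ (legX_rs j ξ h s ws m h1 h2 i)

end Groth.Agent.Vancyc.H695.Deg0
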