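import Groth.Agent.Vancyc.H695.Deg0
import Groth.Agent.Etcore.HpVia

/-!
# The stalk of `j_* j^* F` in degree zero, equivariantly (`H^0`)

`ccIso : (pull j ⋙ push j) ⋙ stalk ξ ≅ pull t ⋙ Γ(M, -)`; it carries the endomorphism given by an
`X`-endomorphism `s` of `Y` to the pull-back `hpVia` along the induced endomorphism `m` of `M` (`ccIso_theta`).
-/

set_option autoImplicit false
set_option backward.isDefEq.respectTransparency.types false
universe u

open CategoryTheory CategoryTheory.Limits AlgebraicGeometry Opposite Abelian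
open scoped Groth.Agent.Etcore.EtInst
open Groth.Agent.Etcore.EtInst

namespace Groth.Agent.Vancyc.H695.Deg0

open Groth.Agent Groth.Agent.EtpbcB Groth.Agent.EtpbcB.StrictLoc Groth.Agent.EtpbcB.Big
  Groth.Agent.EtpbcB.SepClosedPoint Groth.Agent.Etcore.PullCoh
  Groth.Agent.Etcore.LimDeg0 Groth.Agent.Etcore.StalkLim Groth.Agent.Etcore.SecPull
  Groth.Agent.Etcore.HpullCalc ThetaG

variable {X Y : Scheme.{u}} (j : Y ⟶ X) {Ω : Type u} [Field Ω] [IsSepClosed Ω]
  (ξ : Spec (CommRingCat.of Ω) ⟶ X) {M : Scheme.{u}} {b : M ⟶ Spec (Osh ξ)} {a : M ⟶ Y}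
  (h : IsPullback a b j (toBase ξ)) (t : M ⟶ X) (w : a ≫ j = t)

theorem bcTop_left {M M' : Scheme.{u}} (m : M' ⟶ M) :
    (EtCore.bcTopIso m).inv.left ≫ bcFst m (EtCoh.top M) = m := by
  have h2 : (EtCore.bcTopIso m).inv.left ≫ bcFst m (EtCoh.top M) ≫ (EtCoh.top M).hom =
      (EtCore.bcTopIso m).inv.left ≫ ((EtCoh.bc m).obj (EtCoh.top M)).hom ≫ m := by
    rw [bc_condition]
  have h3 : (EtCore.bcTopIso m).inv.left ≫ ((EtCoh.bc m).obj (EtCoh.top M)).hom =
      (EtCoh.top M').hom := et_w _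
  rw [← Category.assoc, ← Category.assoc, h3] at h2
  exact (Category.comp_id _).symm.trans (h2.trans (Category.id_comp _))

/-- pulling back a global section and transporting, in terms of families -/
theorem val_unitSec (m : M ⟶ M) (wm : m ≫ t = t) (F : EtCoh.Ab X)
    (z : EtCoh.sect ((EtCoh.pull t).obj F) (EtCoh.top M)) :
    val t F (U := EtCoh.top M) ((th m t t wm F).hom.app (op (EtCoh.top M))
      (((EtCoh.pull m).obj ((EtCoh.pull t).obj F)).obj.map (EtCore.bcTopIso m).inv.op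
        (eta m _ (EtCoh.top M) z))) =
      (val t F (U := EtCoh.top M) z).res m (topCond t m wm) := by
  rw [map_res, val_res, val_th, Fam.res_res]
  exact Fam.res_congr _ _ (bcTop_left m)

theorem unitSec_apply {M M' : Scheme.{u}} (m : M' ⟶ M) (G : EtCoh.Ab M)
    (z : EtCoh.sect G (EtCoh.top M)) :
    (Etcore.HpullCalc.unitSec m G).hom z = ((EtCoh.pull m).obj G).obj.map (EtCore.bcTopIso m).inv.op
        (eta m G (EtCoh.top M) z) := rfl

/-- local family of a pulled back global section -/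
theorem val_H0_hpVia (m : M ⟶ M) (wm : m ≫ t = t) [PreservesFiniteLimits (EtCoh.pull m)]
    (F : EtCoh.Ab X) (y : HH M ((EtCoh.pull t).obj F) 0) :
    val t F (U := EtCoh.top M) (H0 M _ (hpVia m t t wm F 0 y)) =
      (val t F (U := EtCoh.top M) (H0 M _ y)).res m (topCond t m wm) := by
  rw [Etcore.HpVia.hpVia_eq, H0_map, hp_zero, unitSec_apply, val_unitSec]

/-- **The comparison isomorphism in degree zero.** -/
noncomputable def ccIso [QuasiCompact j] [QuasiSeparated j] :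
    (EtCoh.pull j ⋙ EtCoh.push j) ⋙ EtCoh.stalk ξ ≅ EtCoh.pull t ⋙ Γtop M :=
  NatIso.ofComponents (fun F => asIso (cc j ξ h t w F)) (fun φ => cc_naturality j ξ h t w φ)

/-- `H^0` as the functor of global sections -/
noncomputable def eps (G : EtCoh.Ab M) : HH M G 0 ≃+ (Γtop M).obj G := H0 M G

theorem eps_naturality (G G' : EtCoh.Ab M) (φ : G ⟶ G') (x : HH M G 0) :
    eps G' (x.comp (Ext.mk₀ φ) (add_zero 0)) = (Γtop M).map φ (eps G x) :=
  H0_map φ x

theorem val_eps (F : EtCoh.Ab X) (y : HH M ((EtCoh.pull t).obj F) 0) :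
    val t F (U := EtCoh.top M) (eps _ y) = val t F (U := EtCoh.top M) (H0 M _ y) := rfl

theorem cc_theta (s : Y ⟶ Y) (ws : s ≫ j = j) (m : M ⟶ M)
    (h1 : m ≫ a = a ≫ s) (h2 : m ≫ b = b) (wm : m ≫ t = t)
    [PreservesFiniteLimits (EtCoh.pull m)] (F : EtCoh.Ab X)
    (x : (EtCoh.stalk ξ).obj ((EtCoh.push j).obj ((EtCoh.pull j).obj F)))
    (y : HH M ((EtCoh.pull t).obj F) 0) (hy : eps _ y = cc j ξ h t w F x) :
    cc j ξ h t w F ((EtCoh.stalk ξ).map (tG j s ws F) x) = eps _ (hpVia m t t wm F 0 y) := by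
  apply val_ext t F (U := EtCoh.top M)
  rw [val_cc_tG j ξ h t w s ws m h1 h2, ← hy, val_eps, val_eps, val_H0_hpVia]

theorem ccIso_theta [QuasiCompact j] [QuasiSeparated j] (s : Y ⟶ Y) (ws : s ≫ j = j) (m : M ⟶ M)
    (h1 : m ≫ a = a ≫ s) (h2 : m ≫ b = b) (wm : m ≫ t = t)
    [PreservesFiniteLimits (EtCoh.pull m)] (F : EtCoh.Ab X)
    (x : (EtCoh.stalk ξ).obj ((EtCoh.pull j ⋙ EtCoh.push j).obj F))
    (y : HH M ((EtCoh.pull t).obj F) 0) (hy : eps _ y = (ccIso j ξ h t w).hom.app F x) :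
    (ccIso j ξ h t w).hom.app F ((EtCoh.stalk ξ).map ((thetaG s j j ws).app F) x) =
      eps _ (hpVia m t t wm F 0 y) :=
  cc_theta j ξ h t w s ws m h1 h2 wm F x y hy

end Groth.Agent.Vancyc.H695.Deg0
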