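import Groth.Agent.Vancyc.H695.RDerNat
import Groth.Agent.Localalg.DeltaFun
import Groth.Agent.Sga4h.FunLES
import Mathlib.Algebra.Homology.DerivedCategory.Ext.MapBijective
import Mathlib.Algebra.Homology.DerivedCategory.Ext.ExactSequences
import Mathlib.CategoryTheory.Abelian.Injective.Ext

/-!
# Equivariant comparison of right derived functors with `Ext` groups, by dimension shifting

`G : C ⥤ D` additive left exact, `st : D ⥤ Ab` exact, `L : C ⥤ E` exact, `Z : E`, a natural isomorphism
`c F : st (G F) ≃ Ext^0(Z, L F)`, such that `L J` is `Ext(Z,-)`-acyclic for `J` injective.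
`exists_equiv`: there are isomorphisms `st (R^q G F) ≃ Ext^q(Z, L F)` compatible with a family of endomorphisms
`τ k : G ⟶ G` and `m k : Ext^q(Z, L F) → Ext^q(Z, L F)` which correspond to each other in degree zero.
-/

set_option autoImplicit false
set_option backward.isDefEq.respectTransparency false
universe w v u v' u' v'' u''

open CategoryTheory CategoryTheory.Limits CategoryTheory.Category CategoryTheory.Abelian
open Groth.Agent.EtpbcB.RDerLES

namespace Groth.Agent.Vancyc.H695.EquivShift

/-- Isomorphisms of quotients. -/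
theorem exists_addEquiv {A B A' B' : Type*} [AddCommGroup A] [AddCommGroup B] [AddCommGroup A']
    [AddCommGroup B'] (f : A →+ B) (g : A' →+ B') (hf : Function.Surjective f)
    (hg : Function.Surjective g) (a : A ≃+ A') (h : ∀ x, f x = 0 ↔ g (a x) = 0) :
    ∃ e : B ≃+ B', ∀ x, e (f x) = g (a x) := by
  choose s hs using hf
  have key : ∀ x y, f x = f y → g (a x) = g (a y) := by
    intro x y hxy
    have h1 : f (x - y) = 0 := by rw [map_sub, hxy, sub_self]
    have h2 := (h (x - y)).1 h1
    rw [map_sub, map_sub, sub_eq_zero] at h2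
    exact h2
  let e₀ : B →+ B' := AddMonoidHom.mk' (fun b => g (a (s b))) (by
    intro b b'
    have h1 : f (s (b + b')) = f (s b + s b') := by rw [hs, map_add, hs, hs]
    have h2 := key _ _ h1
    simp only [map_add] at h2
    exact h2)
  have he : ∀ x, e₀ (f x) = g (a x) := fun x => key _ _ (hs (f x))
  refine ⟨AddEquiv.ofBijective e₀ ⟨?_, ?_⟩, he⟩
  · rw [injective_iff_map_eq_zero]
    intro b hb
    have h1 : g (a (s b)) = 0 := hb
    have h2 := (h (s b)).2 h1
    rwa [hs] at h2
  · intro b'
    obtain ⟨y, rfl⟩ := hg b'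
    refine ⟨f (a.symm y), ?_⟩
    rw [he, a.apply_symm_apply]

section

variable {C : Type u} [Category.{v} C] [Abelian C] [EnoughInjectives C]
variable {D : Type u'} [Category.{v'} D] [Abelian D] (G : C ⥤ D) [G.Additive] [PreservesFiniteLimits G]
variable (st : D ⥤ AddCommGrpCat.{w}) [st.Additive] [PreservesFiniteLimits st] [PreservesFiniteColimits st]
variable {E : Type u''} [Category.{v''} E] [Abelian E] [HasExt.{w} E]
variable (L : C ⥤ E) [L.Additive] [PreservesFiniteLimits L] [PreservesFiniteColimits L] (Z : E)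

omit [EnoughInjectives C] in
/-- exactness after applying `st`, elementwise -/
theorem exact_st {X Y W : D} (f : X ⟶ Y) (g : Y ⟶ W) (w : f ≫ g = 0)
    (h : (ShortComplex.mk f g w).Exact) (y : st.obj Y) (hy : st.map g y = 0) :
    ∃ x : st.obj X, st.map f x = y := by
  have h1 : ((ShortComplex.mk f g w).map st).Exact := h.map st
  exact (ShortComplex.ab_exact_iff _).1 h1 y hy

omit [EnoughInjectives C] in
theorem surj_st {X Y : D} (f : X ⟶ Y) [Epi f] : Function.Surjective (st.map f) := by
  have : Epi (st.map f) := inferInstance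
  exact (AddCommGrpCat.epi_iff_surjective _).1 this

/-- **Equivariant comparison.** -/
theorem exists_equiv
    (hacyc : ∀ J : C, Injective J → ∀ n : ℕ, Subsingleton (Ext.{w} Z (L.obj J) (n + 1)))
    (c : ∀ F : C, st.obj (G.obj F) ≃+ Ext.{w} Z (L.obj F) 0)
    (hc : ∀ (F F' : C) (φ : F ⟶ F') (x : st.obj (G.obj F)),
      c F' (st.map (G.map φ) x) = (c F x).comp (Ext.mk₀ (L.map φ)) (add_zero 0))
    {κ : Type*} (τ : κ → (G ⟶ G))
    (m : κ → ∀ (F : C) (q : ℕ), Ext.{w} Z (L.obj F) q →+ Ext.{w} Z (L.obj F) q)
    (hm : ∀ (k : κ) {S : ShortComplex C} (hS : S.ShortExact) (q : ℕ) (x : Ext.{w} Z (L.obj S.X₃) q),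
      m k S.X₁ (q + 1) (x.comp (hS.map_of_exact L).extClass rfl) =
        (m k S.X₃ q x).comp (hS.map_of_exact L).extClass rfl)
    (h0 : ∀ (k : κ) (F : C) (x : st.obj (G.obj F)), c F (st.map ((τ k).app F) x) = m k F 0 (c F x))
    (q : ℕ) : ∀ F : C, ∃ e : st.obj ((G.rightDerived q).obj F) ≃+ Ext.{w} Z (L.obj F) q,
      ∀ (k : κ) (z : st.obj ((G.rightDerived q).obj F)),
        e (st.map ((NatTrans.rightDerived (τ k) q).app F) z) = m k F q (e z) := by
  induction q with
  | zero =>
    intro F
    let i : G.obj F ≅ (G.rightDerived 0).obj F := (G.rightDerivedZeroIsoSelf.symm.app F)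
    have hi : i.hom = G.toRightDerivedZero.app F := rfl
    let e₁ : st.obj ((G.rightDerived 0).obj F) ≃+ st.obj (G.obj F) :=
      (st.mapIso i).symm.addCommGroupIsoToAddEquiv
    have he₁ : ∀ x : st.obj (G.obj F), e₁ (st.map i.hom x) = x := fun x =>
      ConcreteCategory.congr_hom (st.mapIso i).hom_inv_id x
    have he₁' : ∀ x : st.obj ((G.rightDerived 0).obj F), st.map i.hom (e₁ x) = x := fun x =>
      ConcreteCategory.congr_hom (st.mapIso i).inv_hom_id x
    refine ⟨e₁.trans (c F), fun k z => ?_⟩
    obtain ⟨x, rfl⟩ : ∃ x, st.map i.hom x = z := ⟨e₁ z, he₁' z⟩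
    rw [AddEquiv.trans_apply, AddEquiv.trans_apply, he₁]
    have h1 := Groth.Agent.Sga4h.FunLES.toZero_naturality (τ k) F
    have h2 : st.map ((NatTrans.rightDerived (τ k) 0).app F) (st.map i.hom x) =
        st.map i.hom (st.map ((τ k).app F) x) := by
      rw [hi]
      have h3 := congrArg (fun t => st.map t x) h1
      simp only [Functor.map_comp, ConcreteCategory.comp_apply] at h3
      exact h3.symm
    rw [h2, he₁]
    exact h0 k F x
  | succ q ih =>
    intro F
    let S : ShortComplex C := Localalg.DeltaFun.injSES F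
    have hS : S.ShortExact := Localalg.DeltaFun.injSES_shortExact F
    have hJ : Injective S.X₂ := inferInstanceAs (Injective (Injective.under F))
    have hz1 : IsZero ((G.rightDerived (q + 1)).obj S.X₂) :=
      G.isZero_rightDerived_obj_injective_succ q S.X₂
    have hep : Epi (δ G hS q) := (exact₁ G hS q).epi_f (hz1.eq_of_tgt _ _)
    have hs1 : Function.Surjective (st.map (δ G hS q)) := surj_st st _
    have hsub : Subsingleton (Ext.{w} Z (L.obj S.X₂) (q + 1)) := hacyc _ hJ q
    have hs2 : Function.Surjective (((hS.map_of_exact L).extClass).postcomp Z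
        (rfl : q + 1 = q + 1)) := by
      intro y
      obtain ⟨x, hx⟩ := Ext.covariant_sequence_exact₁ Z (hS.map_of_exact L) y
        (Subsingleton.elim (α := Ext.{w} Z (L.obj S.X₂) (q + 1)) _ _) (rfl : q + 1 = q + 1)
      exact ⟨x, hx⟩
    -- the comparison in degree `q` for `S.X₃`, compatible with the kernels
    obtain ⟨e, he, hker⟩ : ∃ e : st.obj ((G.rightDerived q).obj S.X₃) ≃+ Ext.{w} Z (L.obj S.X₃) q,
        (∀ (k : κ) (z : st.obj ((G.rightDerived q).obj S.X₃)),
          e (st.map ((NatTrans.rightDerived (τ k) q).app S.X₃) z) = m k S.X₃ q (e z)) ∧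
        ∀ z, st.map (δ G hS q) z = 0 ↔ (e z).comp (hS.map_of_exact L).extClass rfl = 0 := by
      cases q with
      | zero =>
        let i : ∀ F : C, G.obj F ≅ (G.rightDerived 0).obj F := fun F => (G.rightDerivedZeroIsoSelf.symm.app F)
        have hi : ∀ F, (i F).hom = G.toRightDerivedZero.app F := fun F => rfl
        let e₁ : ∀ F : C, st.obj ((G.rightDerived 0).obj F) ≃+ st.obj (G.obj F) :=
          fun F => (st.mapIso (i F)).symm.addCommGroupIsoToAddEquiv
        have he₁ : ∀ (F) (x : st.obj (G.obj F)), e₁ F (st.map (i F).hom x) = x := fun F x =>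
          ConcreteCategory.congr_hom (st.mapIso (i F)).hom_inv_id x
        have he₁' : ∀ (F) (x : st.obj ((G.rightDerived 0).obj F)), st.map (i F).hom (e₁ F x) = x :=
          fun F x => ConcreteCategory.congr_hom (st.mapIso (i F)).inv_hom_id x
        refine ⟨(e₁ S.X₃).trans (c S.X₃), fun k z => ?_, fun z => ?_⟩
        · obtain ⟨x, rfl⟩ : ∃ x, st.map (i S.X₃).hom x = z := ⟨e₁ _ z, he₁' _ z⟩
          rw [AddEquiv.trans_apply, AddEquiv.trans_apply, he₁]
          have h1 := Groth.Agent.Sga4h.FunLES.toZero_naturality (τ k) S.X₃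
          have h2 : st.map ((NatTrans.rightDerived (τ k) 0).app S.X₃) (st.map (i S.X₃).hom x) =
              st.map (i S.X₃).hom (st.map ((τ k).app S.X₃) x) := by
            rw [hi]
            have h3 := congrArg (fun t => st.map t x) h1
            simp only [Functor.map_comp, ConcreteCategory.comp_apply] at h3
            exact h3.symm
          rw [h2, he₁]
          exact h0 k S.X₃ x
        · obtain ⟨x, rfl⟩ : ∃ x, st.map (i S.X₃).hom x = z := ⟨e₁ _ z, he₁' _ z⟩
          rw [AddEquiv.trans_apply, he₁]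
          have hnat : ∀ y : st.obj (G.obj S.X₂), st.map ((G.rightDerived 0).map S.g) (st.map (i S.X₂).hom y) =
              st.map (i S.X₃).hom (st.map (G.map S.g) y) := by
            intro y
            have h1 := G.toRightDerivedZero.naturality S.g
            have h3 := congrArg (fun t => st.map t y) h1
            simp only [Functor.map_comp, ConcreteCategory.comp_apply] at h3
            exact h3.symm
          constructor
          · intro hx
            obtain ⟨y, hy⟩ := exact_st st _ _ _ (exact₃ G hS 0) _ hx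
            obtain ⟨y', rfl⟩ : ∃ x, st.map (i S.X₂).hom x = y := ⟨e₁ _ y, he₁' _ y⟩
            have h2 : st.map (G.map S.g) y' = x := by
              have h3 : st.map (i S.X₃).hom (st.map (G.map S.g) y') = st.map (i S.X₃).hom x :=
                (hnat y').symm.trans hy
              have h4 := congrArg (e₁ S.X₃) h3
              rwa [he₁, he₁] at h4
            rw [← h2, hc]
            have h5 := ShortComplex.ShortExact.comp_extClass (hS.map_of_exact L)
            rw [Ext.comp_assoc_of_second_deg_zero]
            have h6 : (Ext.mk₀ (L.map S.g)).comp (hS.map_of_exact L).extClass (zero_add 1) = 0 := h5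
            rw [h6, Ext.comp_zero]
          · intro hx
            obtain ⟨y, hy⟩ := Ext.covariant_sequence_exact₃ Z (hS.map_of_exact L) (c S.X₃ x) rfl hx
            obtain ⟨y', rfl⟩ := (c S.X₂).surjective y
            have h1 : c S.X₃ (st.map (G.map S.g) y') = c S.X₃ x := by
              rw [hc]; exact hy
            have h2 := (c S.X₃).injective h1
            rw [← h2, ← hnat, ← ConcreteCategory.comp_apply, ← Functor.map_comp, comp_δ]
            simp
      | succ q =>
        obtain ⟨e, he⟩ := ih S.X₃
        refine ⟨e, he, fun z => ?_⟩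
        have hz0 : IsZero ((G.rightDerived (q + 1)).obj S.X₂) :=
          G.isZero_rightDerived_obj_injective_succ q S.X₂
        have hmo : Mono (δ G hS (q + 1)) := (exact₃ G hS (q + 1)).mono_g (hz0.eq_of_src _ _)
        have hmo' : Mono (st.map (δ G hS (q + 1))) := inferInstance
        have hinj : Function.Injective (st.map (δ G hS (q + 1))) :=
          (AddCommGrpCat.mono_iff_injective _).1 hmo'
        have hsub0 : Subsingleton (Ext.{w} Z (L.obj S.X₂) (q + 1)) := hacyc _ hJ q
        constructor
        · intro hz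
          have : z = 0 := hinj (hz.trans (map_zero _).symm)
          rw [this, map_zero]
          exact Ext.zero_comp _ _ _ _ _
        · intro hz
          obtain ⟨y, hy⟩ := Ext.covariant_sequence_exact₃ Z (hS.map_of_exact L) (e z) rfl hz
          have hy0 : y = 0 := Subsingleton.elim (α := Ext.{w} Z (L.obj S.X₂) (q + 1)) _ _
          have h1 : e z = 0 := by
            rw [← hy, hy0]
            exact Ext.zero_comp _ _ _ _ _
          have h2 : z = 0 := e.injective (h1.trans (map_zero e).symm)
          rw [h2, map_zero]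
    obtain ⟨e', he'⟩ := exists_addEquiv (st.map (δ G hS q)).hom
      (((hS.map_of_exact L).extClass).postcomp Z (rfl : q + 1 = q + 1)) hs1 hs2 e hker
    refine ⟨e', fun k z => ?_⟩
    obtain ⟨z, rfl⟩ := hs1 z
    have h1 : st.map ((NatTrans.rightDerived (τ k) (q + 1)).app S.X₁) (st.map (δ G hS q) z) =
        st.map (δ G hS q) (st.map ((NatTrans.rightDerived (τ k) q).app S.X₃) z) := by
      have h2 := congrArg (fun t => st.map t z) (RDerNat.δ_natTrans (τ k) hS q)
      simp only [Functor.map_comp, ConcreteCategory.comp_apply] at h2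
      exact h2
    have h3 : ∀ z, e' (st.map (δ G hS q) z) = (e z).comp (hS.map_of_exact L).extClass rfl := he'
    refine (congrArg e' h1).trans ((h3 _).trans ?_)
    refine (congrArg (fun t : Ext.{w} Z (L.obj S.X₃) q => t.comp (hS.map_of_exact L).extClass rfl)
      (he k z)).trans ?_
    exact (hm k hS q (e z)).symm.trans (congrArg (m k F (q + 1)) (h3 z).symm)

/-- **Equivariant comparison**, with the degree zero comparison given as an isomorphism of functors. -/
theorem exists_equiv_of_iso
    (hacyc : ∀ J : C, Injective J → ∀ n : ℕ, Subsingleton (Ext.{w} Z (L.obj J) (n + 1)))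
    {Γ : E ⥤ AddCommGrpCat.{w}} (e : G ⋙ st ≅ L ⋙ Γ) (ε : ∀ Y : E, Ext.{w} Z Y 0 ≃+ Γ.obj Y)
    (hε : ∀ (Y Y' : E) (φ : Y ⟶ Y') (x : Ext.{w} Z Y 0),
      ε Y' (x.comp (Ext.mk₀ φ) (add_zero 0)) = Γ.map φ (ε Y x))
    {κ : Type*} (τ : κ → (G ⟶ G))
    (m : κ → ∀ (F : C) (q : ℕ), Ext.{w} Z (L.obj F) q →+ Ext.{w} Z (L.obj F) q)
    (hm : ∀ (k : κ) {S : ShortComplex C} (hS : S.ShortExact) (q : ℕ) (x : Ext.{w} Z (L.obj S.X₃) q),
      m k S.X₁ (q + 1) (x.comp (hS.map_of_exact L).extClass rfl) =
        (m k S.X₃ q x).comp (hS.map_of_exact L).extClass rfl)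
    (h0 : ∀ (k : κ) (F : C) (x : st.obj (G.obj F)) (y : Ext.{w} Z (L.obj F) 0),
      ε _ y = e.hom.app F x → e.hom.app F (st.map ((τ k).app F) x) = ε _ (m k F 0 y))
    (q : ℕ) (F : C) : ∃ e : st.obj ((G.rightDerived q).obj F) ≃+ Ext.{w} Z (L.obj F) q,
      ∀ (k : κ) (z : st.obj ((G.rightDerived q).obj F)),
        e (st.map ((NatTrans.rightDerived (τ k) q).app F) z) = m k F q (e z) := by
  let c : ∀ F : C, st.obj (G.obj F) ≃+ Ext.{w} Z (L.obj F) 0 := fun F =>
    ((e.app F).addCommGroupIsoToAddEquiv).trans (ε (L.obj F)).symm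
  have hc : ∀ (F : C) (x : st.obj (G.obj F)), ε _ (c F x) = e.hom.app F x := fun F x =>
    (ε (L.obj F)).apply_symm_apply _
  refine exists_equiv G st L Z hacyc c ?_ τ m hm ?_ q F
  · intro F F' φ x
    apply (ε (L.obj F')).injective
    rw [hε, hc, hc]
    exact ConcreteCategory.congr_hom (e.hom.naturality φ) x
  · intro k F x
    apply (ε (L.obj F)).injective
    rw [hc]
    exact h0 k F x _ (hc F x)

end

end Groth.Agent.Vancyc.H695.EquivShift
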