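import Groth.Agent.Vancyc.H695.Deg0H
import Groth.Agent.Vancyc.H695.EquivShift
import Groth.Agent.Etcore.Stalks

/-!
# Equivariant stalk formula for the right derived functors of `j_* j^*`

`j : Y ⟶ X` qcqs, `ξ` a geometric point of `X`, `M = Y ×_X Spec O^sh_ξ` (projections `a`, `b`), `t = a ≫ j : M ⟶ X`.
If `H^n(M, t^* J) = 0` for `J` injective, `n > 0`, then
`(R^q(j_* j^*) F)_ξ ≃ H^q(M, t^* F)`, and the isomorphism carries the endomorphism induced by an
`X`-endomorphism `s` of `Y` (`ThetaG.thetaG`) to the pull-back `hpVia` along the induced endomorphism of `M`, for all `s`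
simultaneously.
-/

set_option autoImplicit false
set_option backward.isDefEq.respectTransparency.types false
universe u

open CategoryTheory CategoryTheory.Limits AlgebraicGeometry Opposite Abelian
open scoped Groth.Agent.Etcore.EtInst
open Groth.Agent.Etcore.EtInst

namespace Groth.Agent.Vancyc.H695.EC

open Groth.Agent Groth.Agent.EtpbcB Groth.Agent.EtpbcB.StrictLoc
  Groth.Agent.EtpbcB.SepClosedPoint Groth.Agent.Etcore.PullCoh
  Groth.Agent.Etcore.HpullCalc Groth.Agent.Etcore.HpVia ThetaG Deg0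

theorem comp_extClass_comp {A : Type*} [Category* A] [Abelian A] [HasExt.{u + 1} A]
    {S₁ S₂ : ShortComplex A} (h₁ : S₁.ShortExact) (h₂ : S₂.ShortExact)
    (φ : S₁ ⟶ S₂) {G : A} {p q : ℕ} (hpq : p + 1 = q) (z : Ext G S₁.X₃ p) :
    (z.comp h₁.extClass hpq).comp (Ext.mk₀ φ.τ₁) (add_zero q) =
      (z.comp (Ext.mk₀ φ.τ₃) (add_zero p)).comp h₂.extClass hpq := by
  rw [Ext.comp_assoc_of_third_deg_zero, ShortComplex.ShortExact.extClass_naturality h₁ h₂ φ,
    ← Ext.comp_assoc_of_second_deg_zero]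

/-- `hpVia` is compatible with connecting maps. -/
theorem hpVia_extClass {X Y Z : Scheme.{u}} (f : X ⟶ Y) (t : Y ⟶ Z) (f₀ : X ⟶ Z) (w : f ≫ t = f₀)
    [PreservesFiniteLimits (EtCoh.pull f)] [PreservesFiniteLimits (EtCoh.pull t)]
    [PreservesFiniteLimits (EtCoh.pull f₀)] {K : ShortComplex (EtCoh.Ab Z)} (hK : K.ShortExact)
    {n n' : ℕ} (hn : n + 1 = n') (x : HH Y ((EtCoh.pull t).obj K.X₃) n) :
    hpVia f t f₀ w K.X₁ n' (Ext.comp x (hK.map_of_exact (EtCoh.pull t)).extClass hn) =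
      Ext.comp (hpVia f t f₀ w K.X₃ n x) (hK.map_of_exact (EtCoh.pull f₀)).extClass hn := by
  have h3 := hp_extClass f (hK.map_of_exact (EtCoh.pull t)) hn x
  let S₁ := (K.map (EtCoh.pull t)).map (EtCoh.pull f)
  let S₂ := K.map (EtCoh.pull f₀)
  let φ : S₁ ⟶ S₂ :=
    { τ₁ := th f t f₀ w K.X₁
      τ₂ := th f t f₀ w K.X₂
      τ₃ := th f t f₀ w K.X₃
      comm₁₂ := (th_nat f t f₀ w K.f).symm
      comm₂₃ := (th_nat f t f₀ w K.g).symm }
  have h4 := comp_extClass_comp ((hK.map_of_exact (EtCoh.pull t)).map_of_exact (EtCoh.pull f))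
    (hK.map_of_exact (EtCoh.pull f₀)) φ hn (hp f _ n x)
  rw [hpVia_eq, hpVia_eq, HHmap_apply, HHmap_apply]
  exact (congrArg (fun z => Ext.comp z (Ext.mk₀ (th f t f₀ w K.X₁)) (add_zero n')) h3).trans h4

variable {X Y : Scheme.{u}} (j : Y ⟶ X) {Ω : Type u} [Field Ω] [IsSepClosed Ω]
  (ξ : Spec (CommRingCat.of Ω) ⟶ X) {M : Scheme.{u}} {b : M ⟶ Spec (Osh ξ)} {a : M ⟶ Y}
  (h : IsPullback a b j (toBase ξ)) (t : M ⟶ X) (w : a ≫ j = t)

include h w in
/-- Equivariant stalk formula, in terms of families of endomorphisms given by variables (kernel speed). -/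
theorem exists_equiv_aux [QuasiCompact j] [QuasiSeparated j]
    [PreservesFiniteLimits (EtCoh.pull j)] [PreservesFiniteLimits (EtCoh.pull t)]
    (hacyc : ∀ J : EtCoh.Ab X, Injective J → ∀ n : ℕ, Subsingleton (HH M ((EtCoh.pull t).obj J) (n + 1)))
    {κ : Type*} (s : κ → (Y ⟶ Y)) (ws : ∀ k, s k ≫ j = j) (m : κ → (M ⟶ M))
    (h1 : ∀ k, m k ≫ a = a ≫ s k) (h2 : ∀ k, m k ≫ b = b) (wm : ∀ k, m k ≫ t = t)
    [∀ k, PreservesFiniteLimits (EtCoh.pull (m k))]
    (τ : κ → ((EtCoh.pull j ⋙ EtCoh.push j) ⟶ (EtCoh.pull j ⋙ EtCoh.push j)))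
    (hτ : ∀ k, τ k = thetaG (s k) j j (ws k))
    (μ : κ → ∀ (F : EtCoh.Ab X) (q : ℕ), HH M ((EtCoh.pull t).obj F) q →+ HH M ((EtCoh.pull t).obj F) q)
    (hμ : ∀ k F q, μ k F q = hpVia (m k) t t (wm k) F q)
    (q : ℕ) (F : EtCoh.Ab X) :
    ∃ e : (EtCoh.stalk ξ).obj (((EtCoh.pull j ⋙ EtCoh.push j).rightDerived q).obj F) ≃+
        HH M ((EtCoh.pull t).obj F) q,
      ∀ (k : κ) (z : (EtCoh.stalk ξ).obj (((EtCoh.pull j ⋙ EtCoh.push j).rightDerived q).obj F)),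
        e ((EtCoh.stalk ξ).map ((NatTrans.rightDerived (τ k) q).app F) z) = μ k F q (e z) := by
  have hm : ∀ (k : κ) {S : ShortComplex (EtCoh.Ab X)} (hS : S.ShortExact) (q : ℕ)
      (x : HH M ((EtCoh.pull t).obj S.X₃) q),
      μ k S.X₁ (q + 1) (Ext.comp x (hS.map_of_exact (EtCoh.pull t)).extClass rfl) =
        Ext.comp (μ k S.X₃ q x) (hS.map_of_exact (EtCoh.pull t)).extClass rfl := by
    intro k S hS q x
    rw [hμ, hμ]
    exact hpVia_extClass (m k) t t (wm k) hS rfl x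
  have h0 : ∀ (k : κ) (F : EtCoh.Ab X) (x : (EtCoh.stalk ξ).obj ((EtCoh.pull j ⋙ EtCoh.push j).obj F))
      (y : HH M ((EtCoh.pull t).obj F) 0),
      eps _ y = (ccIso j ξ h t w).hom.app F x →
        (ccIso j ξ h t w).hom.app F ((EtCoh.stalk ξ).map ((τ k).app F) x) = eps _ (μ k F 0 y) := by
    intro k F x y hy
    rw [hτ, hμ]
    exact ccIso_theta j ξ h t w (s k) (ws k) (m k) (h1 k) (h2 k) (wm k) F x y hy
  exact EquivShift.exists_equiv_of_iso (EtCoh.pull j ⋙ EtCoh.push j) (EtCoh.stalk ξ) (EtCoh.pull t)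
    (EtCoh.const M ℤ) hacyc (ccIso j ξ h t w) eps eps_naturality τ μ hm h0 q F

end Groth.Agent.Vancyc.H695.EC
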