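import Groth.Agent.Vancyc.H695.EC
import Groth.Agent.Vancyc.H695.AcycLim
import Groth.Agent.Etbase.StalkPull
import Groth.Agent.S0101

/-!
# The Galois action on the stalks of nearby cycles

`R` noetherian with fraction field `K`, `Ω` separable over `K`, `f : X ⟶ Spec R`, `ξ` a geometric point of the special
fibre, `ξ' = ξ ≫ i`, `M = X_Ω ×_X Spec O^sh_{ξ'}` with projections `a`, `b`, `t = a ≫ jbar : M ⟶ X`.
`exists_psi_equiv`: there is an isomorphism `Ψ^q_T(F)_ξ ≃+ H^q(M, t^* F)` which carries `VanCyc.psiGal f σ` to the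
pull-back along the automorphism `mσ` of `M` induced by `σ`, for all `σ` simultaneously.
-/

set_option autoImplicit false
set_option backward.isDefEq.respectTransparency.types false
universe u

open CategoryTheory CategoryTheory.Limits AlgebraicGeometry Opposite Abelian
open scoped Groth.Agent.Etcore.EtInst
open Groth.Agent.Etcore.EtInst

namespace Groth.Agent.Vancyc.H695.ECpsi

open Groth.Agent Groth.Agent.EtpbcB Groth.Agent.EtpbcB.StrictLoc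
  Groth.Agent.Etcore.HpullCalc ThetaG

variable {R : Type u} [CommRing R] [IsLocalRing R] {K : Type u} [Field K] [Algebra R K]
  {Ω : Type u} [Field Ω] [Algebra K Ω] [Algebra R Ω] [IsScalarTower R K Ω]
  {X : Scheme.{u}} (f : X ⟶ Spec (CommRingCat.of R))

/-- Equivariant stalk formula for the direct image functor, transported to the special fibre (variable form). -/
theorem exists_equiv_var [IsNoetherianRing R] [IsFractionRing R K] [Algebra.IsSeparable K Ω]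
    {Ω' : Type u} [Field Ω'] [IsSepClosed Ω'] (ξ : Spec (CommRingCat.of Ω') ⟶ VanCyc.spFib R f)
    {M : Scheme.{u}} {b : M ⟶ Spec (Osh (ξ ≫ VanCyc.icl R f))} {a : M ⟶ VanCyc.fib R f Ω}
    (h : IsPullback a b (VanCyc.jA R f Ω) (toBase (ξ ≫ VanCyc.icl R f)))
    (t : M ⟶ X) (w : a ≫ VanCyc.jA R f Ω = t) (m : (Ω ≃ₐ[K] Ω) → (M ⟶ M))
    (h1 : ∀ σ, m σ ≫ a = a ≫ VanCyc.galGeom f σ) (h2 : ∀ σ, m σ ≫ b = b) (wm : ∀ σ, m σ ≫ t = t)
    [PreservesFiniteLimits (EtCoh.pull (VanCyc.jA R f Ω))] [PreservesFiniteLimits (EtCoh.pull t)]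
    [∀ σ, PreservesFiniteLimits (EtCoh.pull (m σ))]
    (τ : (Ω ≃ₐ[K] Ω) → (VanCyc.Theta R Ω f ⟶ VanCyc.Theta R Ω f))
    (hτ : ∀ σ, τ σ = VanCyc.thetaEnd f σ)
    (μ : (Ω ≃ₐ[K] Ω) → ∀ (F : EtCoh.Ab X) (q : ℕ),
      HH M ((EtCoh.pull t).obj F) q →+ HH M ((EtCoh.pull t).obj F) q)
    (hμ : ∀ σ F q, μ σ F q = hpVia (m σ) t t (wm σ) F q)
    (q : ℕ) (F : EtCoh.Ab X) :
    ∃ e : (EtCoh.stalk ξ).obj ((EtCoh.pull (VanCyc.icl R f)).obj
        (((VanCyc.Theta R Ω f).rightDerived q).obj F)) ≃+ HH M ((EtCoh.pull t).obj F) q,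
      ∀ (σ : Ω ≃ₐ[K] Ω) (z : (EtCoh.stalk ξ).obj ((EtCoh.pull (VanCyc.icl R f)).obj
          (((VanCyc.Theta R Ω f).rightDerived q).obj F))),
        e ((EtCoh.stalk ξ).map ((EtCoh.pull (VanCyc.icl R f)).map
          ((NatTrans.rightDerived (τ σ) q).app F)) z) = μ σ F q (e z) := by
  have hacyc : ∀ J : EtCoh.Ab X, Injective J → ∀ n : ℕ,
      Subsingleton (HH M ((EtCoh.pull t).obj J) (n + 1)) := fun J hJ n =>
    AcycLim.subsingleton_H_local K Ω f (VanCyc.jA R f Ω) (VanCyc.fibStr R f Ω)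
      (IsPullback.of_hasPullback f (VanCyc.toS R Ω)) (ξ ≫ VanCyc.icl R f) h t w J n.succ_pos
  have hj : IsAffineHom (VanCyc.jA R f Ω) :=
    MorphismProperty.of_isPullback (IsPullback.of_hasPullback f (VanCyc.toS R Ω)).flip inferInstance
  obtain ⟨e, he⟩ := EC.exists_equiv_aux (VanCyc.jA R f Ω) (ξ ≫ VanCyc.icl R f) h t w hacyc
    (fun σ => VanCyc.galGeom f σ) (fun σ => VanCyc.galGeom_jA f σ) m h1 h2 wm τ
    (fun σ => (hτ σ).trans (thetaEnd_eq f σ)) μ hμ q F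
  let E := Etbase.StalkPull.stalkPullIso (VanCyc.icl R f) ξ
  let e' : (EtCoh.stalk ξ).obj ((EtCoh.pull (VanCyc.icl R f)).obj
        (((VanCyc.Theta R Ω f).rightDerived q).obj F)) ≃+
      (EtCoh.stalk (ξ ≫ VanCyc.icl R f)).obj (((VanCyc.Theta R Ω f).rightDerived q).obj F) :=
    (E.app _).symm.addCommGroupIsoToAddEquiv
  refine ⟨e'.trans e, fun σ z => ?_⟩
  have h3 : e' ((EtCoh.stalk ξ).map ((EtCoh.pull (VanCyc.icl R f)).map
      ((NatTrans.rightDerived (τ σ) q).app F)) z) =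
      (EtCoh.stalk (ξ ≫ VanCyc.icl R f)).map ((NatTrans.rightDerived (τ σ) q).app F) (e' z) :=
    ConcreteCategory.congr_hom (E.inv.naturality ((NatTrans.rightDerived (τ σ) q).app F)) z
  rw [AddEquiv.trans_apply, AddEquiv.trans_apply, h3, he]

/-- **Equivariant stalk formula for nearby cycles.** -/
theorem exists_psi_equiv [IsNoetherianRing R] [IsFractionRing R K] [Algebra.IsSeparable K Ω]
    {Ω' : Type u} [Field Ω'] [IsSepClosed Ω'] (ξ : Spec (CommRingCat.of Ω') ⟶ VanCyc.spFib R f)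
    {M : Scheme.{u}} {b : M ⟶ Spec (Osh (ξ ≫ VanCyc.icl R f))} {a : M ⟶ VanCyc.fib R f Ω}
    (h : IsPullback a b (VanCyc.jA R f Ω) (toBase (ξ ≫ VanCyc.icl R f)))
    (t : M ⟶ X) (w : a ≫ VanCyc.jA R f Ω = t) (m : (Ω ≃ₐ[K] Ω) → (M ⟶ M))
    (h1 : ∀ σ, m σ ≫ a = a ≫ VanCyc.galGeom f σ) (h2 : ∀ σ, m σ ≫ b = b) (wm : ∀ σ, m σ ≫ t = t)
    [∀ σ, PreservesFiniteLimits (EtCoh.pull (m σ))] (q : ℕ) (F : EtCoh.Ab X) :
    ∃ e : (EtCoh.stalk ξ).obj (VanCyc.psiT R Ω f q F) ≃+ HH M ((EtCoh.pull t).obj F) q,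
      ∀ (σ : Ω ≃ₐ[K] Ω) (z : (EtCoh.stalk ξ).obj (VanCyc.psiT R Ω f q F)),
        e ((EtCoh.stalk ξ).map (VanCyc.psiGal f σ q F) z) = hpVia (m σ) t t (wm σ) F q (e z) := by
  have i1 : PreservesFiniteLimits (EtCoh.pull (VanCyc.jA R f Ω)) := S0101.result _
  have i2 : PreservesFiniteLimits (EtCoh.pull t) := S0101.result _
  obtain ⟨τ, hτ⟩ : ∃ τ : (Ω ≃ₐ[K] Ω) → (VanCyc.Theta R Ω f ⟶ VanCyc.Theta R Ω f),
    ∀ σ, τ σ = VanCyc.thetaEnd f σ := ⟨_, fun _ => rfl⟩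
  obtain ⟨μ, hμ⟩ : ∃ μ : (Ω ≃ₐ[K] Ω) → ∀ (F : EtCoh.Ab X) (q : ℕ),
      HH M ((EtCoh.pull t).obj F) q →+ HH M ((EtCoh.pull t).obj F) q,
    ∀ σ F q, μ σ F q = hpVia (m σ) t t (wm σ) F q := ⟨_, fun _ _ _ => rfl⟩
  obtain ⟨e, he⟩ := exists_equiv_var f ξ h t w m h1 h2 wm τ hτ μ hμ q F
  refine ⟨e, fun σ z => ?_⟩
  have h3 := he σ z
  rw [hτ, hμ] at h3
  exact h3

/-- The endomorphism of `M = Y ×_X Spec O^sh` induced by an `X`-endomorphism of `Y`. -/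
noncomputable def mloc {X Y : Scheme.{u}} {j : Y ⟶ X} {Ω : Type u} [Field Ω] [IsSepClosed Ω]
    {ξ : Spec (CommRingCat.of Ω) ⟶ X} {M : Scheme.{u}} {b : M ⟶ Spec (Osh ξ)} {a : M ⟶ Y}
    (h : IsPullback a b j (toBase ξ)) (s : Y ⟶ Y) (ws : s ≫ j = j) : M ⟶ M :=
  h.lift (a ≫ s) b (by rw [Category.assoc, ws, h.w])

@[reassoc (attr := simp)]
theorem mloc_a {X Y : Scheme.{u}} {j : Y ⟶ X} {Ω : Type u} [Field Ω] [IsSepClosed Ω]
    {ξ : Spec (CommRingCat.of Ω) ⟶ X} {M : Scheme.{u}} {b : M ⟶ Spec (Osh ξ)} {a : M ⟶ Y}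
    (h : IsPullback a b j (toBase ξ)) (s : Y ⟶ Y) (ws : s ≫ j = j) : mloc h s ws ≫ a = a ≫ s :=
  h.lift_fst _ _ _

@[reassoc (attr := simp)]
theorem mloc_b {X Y : Scheme.{u}} {j : Y ⟶ X} {Ω : Type u} [Field Ω] [IsSepClosed Ω]
    {ξ : Spec (CommRingCat.of Ω) ⟶ X} {M : Scheme.{u}} {b : M ⟶ Spec (Osh ξ)} {a : M ⟶ Y}
    (h : IsPullback a b j (toBase ξ)) (s : Y ⟶ Y) (ws : s ≫ j = j) : mloc h s ws ≫ b = b :=
  h.lift_snd _ _ _

theorem eq_id_of_equiv {A : AddCommGrpCat.{u + 1}} (φ : A ⟶ A) {B : Type*} [AddCommGroup B]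
    (e : A ≃+ B) (μ : B →+ B) (h : ∀ z : A, e (φ z) = μ (e z)) (hμ : ∀ x, μ x = x) : φ = 𝟙 A := by
  ext z
  apply e.injective
  rw [h, hμ]
  rfl

theorem hpVia_congr_m {M : Scheme.{u}} (t : M ⟶ X) {m m' : M ⟶ M} (hm : m = m') (wm : m ≫ t = t)
    (wm' : m' ≫ t = t) [PreservesFiniteLimits (EtCoh.pull m)] [PreservesFiniteLimits (EtCoh.pull m')]
    (F : EtCoh.Ab X) (q : ℕ) : hpVia m' t t wm' F q = hpVia m t t wm F q := by
  subst hm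
  rfl

theorem hpVia_eq_id_congr {M : Scheme.{u}} (t : M ⟶ X) {m m' : M ⟶ M} (hm : m = m') (wm : m ≫ t = t)
    (wm' : m' ≫ t = t) [PreservesFiniteLimits (EtCoh.pull m)] [PreservesFiniteLimits (EtCoh.pull m')]
    (F : EtCoh.Ab X) (q : ℕ)
    (H : ∀ x : HH M ((EtCoh.pull t).obj F) q, hpVia m t t wm F q x = x)
    (x : HH M ((EtCoh.pull t).obj F) q) : hpVia m' t t wm' F q x = x := by
  rw [hpVia_congr_m t hm wm wm' F q]
  exact H x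

/-- If the pull-back along `mσ` is the identity of `H^q(M, t^* F)`, then `σ` acts trivially on the stalk of
`Ψ^q_T(F)`. -/
theorem stalk_psiGal_eq_id [IsNoetherianRing R] [IsFractionRing R K] [Algebra.IsSeparable K Ω]
    {Ω' : Type u} [Field Ω'] [IsSepClosed Ω'] (ξ : Spec (CommRingCat.of Ω') ⟶ VanCyc.spFib R f)
    {M : Scheme.{u}} {b : M ⟶ Spec (Osh (ξ ≫ VanCyc.icl R f))} {a : M ⟶ VanCyc.fib R f Ω}
    (h : IsPullback a b (VanCyc.jA R f Ω) (toBase (ξ ≫ VanCyc.icl R f)))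
    (t : M ⟶ X) (w : a ≫ VanCyc.jA R f Ω = t) (σ : Ω ≃ₐ[K] Ω) (m : M ⟶ M)
    (h1 : m ≫ a = a ≫ VanCyc.galGeom f σ) (h2 : m ≫ b = b) (wm : m ≫ t = t)
    [PreservesFiniteLimits (EtCoh.pull m)] (q : ℕ) (F : EtCoh.Ab X)
    (H : ∀ x : HH M ((EtCoh.pull t).obj F) q, hpVia m t t wm F q x = x) :
    (EtCoh.stalk ξ).map (VanCyc.psiGal f σ q F) = 𝟙 _ := by
  obtain ⟨mm, hmm⟩ : ∃ mm : (Ω ≃ₐ[K] Ω) → (M ⟶ M),
    ∀ σ, mm σ = mloc h (VanCyc.galGeom f σ) (VanCyc.galGeom_jA f σ) := ⟨_, fun _ => rfl⟩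
  have hm : m = mm σ := by
    rw [hmm]
    apply h.hom_ext
    · rw [h1, mloc_a]
    · rw [h2, mloc_b]
  have h1' : ∀ σ, mm σ ≫ a = a ≫ VanCyc.galGeom f σ := fun σ => by rw [hmm, mloc_a]
  have h2' : ∀ σ, mm σ ≫ b = b := fun σ => by rw [hmm, mloc_b]
  have i : ∀ σ : Ω ≃ₐ[K] Ω, PreservesFiniteLimits (EtCoh.pull (mm σ)) := fun σ => S0101.result _
  have wm' : ∀ σ : Ω ≃ₐ[K] Ω, mm σ ≫ t = t := by
    intro σ
    rw [hmm, ← w, mloc_a_assoc, VanCyc.galGeom_jA]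
  obtain ⟨e, he⟩ := exists_psi_equiv f ξ h t w mm h1' h2' wm' q F
  exact eq_id_of_equiv _ e _ (he σ) (hpVia_eq_id_congr t hm wm (wm' σ) F q H)

end Groth.Agent.Vancyc.H695.ECpsi
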