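import Groth.Agent.EtpbcB.RDerLES

/-!
# The connecting maps of right derived functors are natural in the functor
-/

set_option autoImplicit false
set_option backward.isDefEq.respectTransparency false
universe v u v' u'

open CategoryTheory CategoryTheory.Limits CategoryTheory.Category
open Groth.Agent.EtpbcB.Horseshoe Groth.Agent.EtpbcB.RDerLES

namespace Groth.Agent.Vancyc.H695.RDerNat

variable {C : Type u} [Category.{v} C] [Abelian C] [HasInjectiveResolutions C]
variable {D : Type u'} [Category.{v'} D] [Abelian D] {G G' : C ⥤ D} [G.Additive] [G'.Additive]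
  (τ : G ⟶ G') {S : ShortComplex C} (hS : S.ShortExact)

/-- The morphism of short exact sequences of complexes induced by a natural transformation. -/
noncomputable def rscMap : rsc G hS ⟶ rsc G' hS where
  τ₁ := (NatTrans.mapHomologicalComplex τ (ComplexShape.up ℕ)).app _
  τ₂ := (NatTrans.mapHomologicalComplex τ (ComplexShape.up ℕ)).app _
  τ₃ := (NatTrans.mapHomologicalComplex τ (ComplexShape.up ℕ)).app _
  comm₁₂ := ((NatTrans.mapHomologicalComplex τ (ComplexShape.up ℕ)).naturality _).symm
  comm₂₃ := ((NatTrans.mapHomologicalComplex τ (ComplexShape.up ℕ)).naturality _).symm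

lemma e₃_nat (n : ℕ) : (NatTrans.rightDerived τ n).app S.X₃ ≫ (e₃ G' hS n).hom =
    (e₃ G hS n).hom ≫ HomologicalComplex.homologyMap (rscMap τ hS).τ₃ n := by
  have h := InjectiveResolution.rightDerived_app_eq τ (injectiveResolution S.X₃) n
  rw [h]
  unfold e₃
  rw [Category.assoc, Category.assoc, Iso.inv_hom_id, Category.comp_id]
  rfl

lemma e₁_nat (n : ℕ) : (NatTrans.rightDerived τ n).app S.X₁ ≫ (e₁ G' hS n).hom =
    (e₁ G hS n).hom ≫ HomologicalComplex.homologyMap (rscMap τ hS).τ₁ n := by
  have h := InjectiveResolution.rightDerived_app_eq τ (injectiveResolution S.X₁) n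
  rw [h]
  unfold e₁
  rw [Category.assoc, Category.assoc, Iso.inv_hom_id, Category.comp_id]
  rfl

/-- The connecting maps are natural in the functor. -/
theorem δ_natTrans (n : ℕ) :
    δ G hS n ≫ (NatTrans.rightDerived τ (n + 1)).app S.X₁ =
      (NatTrans.rightDerived τ n).app S.X₃ ≫ δ G' hS n := by
  have h1 := HomologicalComplex.HomologySequence.δ_naturality (rscMap τ hS) (rsc_shortExact G hS)
    (rsc_shortExact G' hS) n (n + 1) rfl
  have h2 := e₃_nat τ hS n
  have h3 := e₁_nat τ hS (n + 1)
  unfold δ
  rw [← cancel_mono (e₁ G' hS (n + 1)).hom]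
  simp only [Category.assoc, Iso.inv_hom_id, Category.comp_id]
  rw [h3, Iso.inv_hom_id_assoc, h1, ← Category.assoc, ← h2, Category.assoc]

end Groth.Agent.Vancyc.H695.RDerNat
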