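import Groth.Prelude.Def_VanCyc
import Groth.Agent.Etcore.LimDeg0
import Groth.Agent.Etcore.StalkLim

/-!
# The natural transformation `j_* j^* ⟶ j'_* j'^*` attached to `s ≫ j = j'`

`thetaG s j j' w : pull j ⋙ push j ⟶ pull j' ⋙ push j'`, its description on sections (`val_thetaG`), and
`thetaEnd_eq : VanCyc.thetaEnd f σ = thetaG (galGeom f σ) jbar jbar _`.
-/

set_option autoImplicit false
set_option backward.isDefEq.respectTransparency.types false
universe u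

open CategoryTheory CategoryTheory.Limits AlgebraicGeometry Opposite

namespace Groth.Agent.Vancyc.H695.ThetaG

open Groth.Agent Groth.Agent.EtpbcB Groth.Agent.EtpbcB.Big Groth.Agent.Etcore.PullCoh
  Groth.Agent.Etcore.LimDeg0

variable {X Y Y' : Scheme.{u}}

/-- The natural transformation `j_* j^* ⟶ j'_* j'^*` for `s ≫ j = j'`. -/
noncomputable def thetaG (s : Y' ⟶ Y) (j : Y ⟶ X) (j' : Y' ⟶ X) (w : s ≫ j = j') :
    EtCoh.pull j ⋙ EtCoh.push j ⟶ EtCoh.pull j' ⋙ EtCoh.push j' :=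
  Functor.whiskerLeft (EtCoh.pull j)
    ((Functor.leftUnitor (EtCoh.push j)).inv ≫
      Functor.whiskerRight (EtCoh.pullPushAdj s).unit (EtCoh.push j) ≫
      (Functor.associator (EtCoh.pull s) (EtCoh.push s) (EtCoh.push j)).hom ≫
      Functor.whiskerLeft (EtCoh.pull s)
        ((EtCoh.pushComp j s).hom ≫ (EtCoh.pushCongr w).hom)) ≫
  (Functor.associator (EtCoh.pull j) (EtCoh.pull s) (EtCoh.push j')).inv ≫
  Functor.whiskerRight ((EtCore.pullComp s j).inv ≫ (EtCore.pullCongr w).hom)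
    (EtCoh.push j')

theorem thetaEnd_eq {R : Type u} [CommRing R] [IsLocalRing R] {K : Type u} [Field K] [Algebra R K]
    {Ω : Type u} [Field Ω] [Algebra K Ω] [Algebra R Ω] [IsScalarTower R K Ω]
    (f : X ⟶ Spec (CommRingCat.of R)) (σ : Ω ≃ₐ[K] Ω) :
    VanCyc.thetaEnd f σ = thetaG (VanCyc.galGeom f σ) (VanCyc.jA R f Ω) (VanCyc.jA R f Ω)
      (VanCyc.galGeom_jA f σ) := rfl

/-- The morphism `X' ×_X U ⟶ X'' ×_X U` -/
noncomputable def rs (s : Y' ⟶ Y) (j : Y ⟶ X) (j' : Y' ⟶ X) (w : s ≫ j = j') (U : X.Etale) :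
    ((EtCoh.bc j').obj U).left ⟶ ((EtCoh.bc j).obj U).left :=
  (BCCalc.isPullback_pr j U).lift (BCCalc.pr j' U) (((EtCoh.bc j').obj U).hom ≫ s)
    (by rw [BCCalc.pr_hom, Category.assoc, w])

@[reassoc (attr := simp)]
theorem rs_pr (s : Y' ⟶ Y) (j : Y ⟶ X) (j' : Y' ⟶ X) (w : s ≫ j = j') (U : X.Etale) :
    rs s j j' w U ≫ BCCalc.pr j U = BCCalc.pr j' U :=
  (BCCalc.isPullback_pr j U).lift_fst _ _ _

@[reassoc (attr := simp)]
theorem rs_hom (s : Y' ⟶ Y) (j : Y ⟶ X) (j' : Y' ⟶ X) (w : s ≫ j = j') (U : X.Etale) :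
    rs s j j' w U ≫ ((EtCoh.bc j).obj U).hom = ((EtCoh.bc j').obj U).hom ≫ s :=
  (BCCalc.isPullback_pr j U).lift_snd _ _ _

theorem rs_cond (s : Y' ⟶ Y) (j : Y ⟶ X) (j' : Y' ⟶ X) (w : s ≫ j = j') (U : X.Etale) :
    rs s j j' w U ≫ ((EtCoh.bc j).obj U).hom ≫ j = ((EtCoh.bc j').obj U).hom ≫ j' := by
  rw [← Category.assoc, rs_hom, Category.assoc, w]

/-- The morphism `X' ×_X U ⟶ X' ×_{X''} (X'' ×_X U)`. -/
noncomputable def mu (s : Y' ⟶ Y) (j : Y ⟶ X) (j' : Y' ⟶ X) (w : s ≫ j = j') (U : X.Etale) :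
    (EtCoh.bc j').obj U ⟶ (EtCoh.bc s).obj ((EtCoh.bc j).obj U) :=
  BCCalc.lift s (rs s j j' w U) (rs_hom s j j' w U)

theorem mu_eq (s : Y' ⟶ Y) (j : Y ⟶ X) (U : X.Etale) :
    mu s j (s ≫ j) rfl U = (BCCalc.compIso j s U).hom := by
  apply BCCalc.hom_ext_bc₂
  rw [BCCalc.compIso_hom_left_pr, mu, BCCalc.lift_left_pr_assoc, rs_pr]

theorem thetaG_app_rfl (s : Y' ⟶ Y) (j : Y ⟶ X) (F : EtCoh.Ab X) (U : X.Etale)
    (x : EtCoh.sect ((EtCoh.pull j).obj F) ((EtCoh.bc j).obj U)) :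
    ((thetaG s j (s ≫ j) rfl).app F).hom.app (op U) x =
      (th s j (s ≫ j) rfl F).hom.app _
        (((EtCoh.pull s).obj ((EtCoh.pull j).obj F)).obj.map (mu s j (s ≫ j) rfl U).op
          (eta s _ ((EtCoh.bc j).obj U) x)) := by
  have h : (thetaG s j (s ≫ j) rfl).app F = (EtCoh.push j).map ((EtCoh.pullPushAdj s).unit.app _) ≫
      (EtCoh.pushComp j s).hom.app _ ≫ (EtCoh.push (s ≫ j)).map (th s j (s ≫ j) rfl F) := by
    unfold thetaG
    simp only [NatTrans.comp_app, Functor.whiskerLeft_app, Functor.whiskerRight_app,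
      Functor.associator_hom_app, Functor.associator_inv_app, Functor.leftUnitor_inv_app,
      Category.id_comp, Functor.id_obj, Functor.comp_obj]
    rw [Category.assoc, Category.assoc]
    have h1 : (EtCoh.pushCongr (rfl : s ≫ j = s ≫ j)).hom.app
        ((EtCoh.pull s).obj ((EtCoh.pull j).obj F)) = 𝟙 _ := by
      apply BCCalc.ab_hom_ext
      intro U
      rw [BCCalc.pushCongr_hom_app_app]
      have h2 : (BCCalc.congrIso (rfl : s ≫ j = s ≫ j) U).inv = 𝟙 _ := by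
        apply BCCalc.hom_ext_bc
        rw [BCCalc.congrIso_inv_left_pr, BCCalc.id_left, Category.id_comp]
      rw [h2]
      exact CategoryTheory.Functor.map_id _ _
    rw [h1, Category.id_comp]
    rfl
  rw [h]
  have h2 := BCCalc.pushComp_hom_app_app j s ((EtCoh.pull s).obj ((EtCoh.pull j).obj F)) U
  rw [mu_eq]
  rfl

/-- **Description of `thetaG` on sections**, in terms of local families. -/
theorem val_thetaG (s : Y' ⟶ Y) (j : Y ⟶ X) (j' : Y' ⟶ X) (w : s ≫ j = j') (F : EtCoh.Ab X)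
    (U : X.Etale) (x : EtCoh.sect ((EtCoh.pull j).obj F) ((EtCoh.bc j).obj U)) :
    val j' F (U := (EtCoh.bc j').obj U) (((thetaG s j j' w).app F).hom.app (op U) x) =
      (val j F x).res (rs s j j' w U) (rs_cond s j j' w U) := by
  subst w
  rw [thetaG_app_rfl, map_res, val_res, val_th, Fam.res_res]
  refine Fam.res_congr _ _ ?_
  exact BCCalc.lift_left_pr _ _ _

end Groth.Agent.Vancyc.H695.ThetaG
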